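import Groth.Prelude.Def_Mor2
import Mathlib.AlgebraicGeometry.Morphisms.QuasiSeparated
import Mathlib.AlgebraicGeometry.Morphisms.Immersion
import Mathlib.AlgebraicGeometry.Morphisms.Affine
import Mathlib.AlgebraicGeometry.Pullbacks

/-!
# Quasi-affine morphisms: locality, composition, base change, cancellation
-/

set_option autoImplicit false
universe u

open CategoryTheory CategoryTheory.Limits AlgebraicGeometry TopologicalSpace Opposite

namespace Groth.Agent.H11QAff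

variable {X Y Z : Scheme.{u}}

theorem isQuasiAffine_of_iso (e : X ≅ Y) [Y.IsQuasiAffine] : X.IsQuasiAffine :=
  Scheme.IsQuasiAffine.of_isAffineHom e.hom

theorem isQuasiAffine_open_of_le {U W : X.Opens} (h : U ≤ W) (hU : IsCompact (U : Set X))
    (hW : (W : Scheme.{u}).IsQuasiAffine) : (U : Scheme.{u}).IsQuasiAffine := by
  have : CompactSpace (U : Scheme.{u}) := isCompact_iff_compactSpace.1 hU
  exact Scheme.IsQuasiAffine.of_isImmersion (X.homOfLE h)

/-- A quasi-compact scheme covered by quasi-affine basic opens of global sections is quasi-affine. -/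
theorem isQuasiAffine_of_globalSections (X : Scheme.{u}) [CompactSpace X]
    (H : ∀ x : X, ∃ r : Γ(X, ⊤), x ∈ X.basicOpen r ∧ ((X.basicOpen r : X.Opens) : Scheme.{u}).IsQuasiAffine) :
    X.IsQuasiAffine := by
  choose r hxr hr using H
  have hqs : QuasiSeparatedSpace X :=
    .of_isOpenCover (U := fun x => X.basicOpen (r x))
      (eq_top_iff.mpr fun x _ => Opens.mem_iSup.mpr ⟨x, hxr x⟩)
      (fun x => isRetrocompact_basicOpen _)
      (fun x => isQuasiSeparated_iff_quasiSeparatedSpace (X.basicOpen (r x) : Set X)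
        (X.basicOpen (r x)).isOpen |>.2 (have := hr x; (inferInstance : QuasiSeparatedSpace ((X.basicOpen (r x) : X.Opens) : Scheme.{u}))))
  refine Scheme.IsQuasiAffine.of_forall_exists_mem_basicOpen X fun x => ?_
  let W : X.Opens := X.basicOpen (r x)
  have : (W : Scheme.{u}).IsQuasiAffine := hr x
  obtain ⟨_, ⟨_, ⟨s, hs, rfl⟩, rfl⟩, hxs, -⟩ :=
    (Scheme.IsQuasiAffine.isBasis_basicOpen (W : Scheme.{u})).exists_subset_of_mem_open
      (Set.mem_univ (⟨x, hxr x⟩ : W)) isOpen_univ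
  let s' : Γ(X, W) := W.topIso.hom s
  have hs' : X.basicOpen s' = W.ι ''ᵁ (W : Scheme.{u}).basicOpen s := by
    rw [Scheme.image_basicOpen]
    simp only [s', Scheme.Opens.topIso_hom, Scheme.Opens.ι_appIso, Iso.refl_inv]
    exact Scheme.basicOpen_res_eq _ _ _
  have := isLocalization_basicOpen_of_qcqs (X := X) isCompact_univ isQuasiSeparated_univ (r x)
  obtain ⟨t, ⟨_, n, rfl⟩, ht⟩ := IsLocalization.exists_mk'_eq (Submonoid.powers (r x)) s'
  have he : X.basicOpen (r x * t) = X.basicOpen s' := by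
    have h := IsLocalization.mk'_spec (Γ(X, W)) t (⟨_, n, rfl⟩ : Submonoid.powers (r x))
    rw [ht] at h
    have h2 := congrArg (fun a => X.basicOpen a) h
    simp only [Scheme.basicOpen_mul, RingHom.algebraMap_toAlgebra, map_pow] at h2
    rw [Scheme.basicOpen_res] at h2
    rw [Scheme.basicOpen_mul, ← h2]
    refine inf_eq_left.2 ?_
    rcases Nat.eq_zero_or_pos n with rfl | hn
    · simp [W, Scheme.basicOpen_of_isUnit]
      exact X.basicOpen_le s'
    · erw [X.basicOpen_pow _ hn]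
      refine le_trans (X.basicOpen_le s') ?_
      erw [Scheme.basicOpen_res]
      exact le_inf le_rfl le_rfl
  refine ⟨r x * t, ?_, ?_⟩
  · rw [he, hs']
    exact hs.image_of_isOpenImmersion W.ι
  · rw [he, hs']
    exact ⟨_, hxs, rfl⟩

/-- If `g : X ⟶ W` is quasi-compact, `W` is quasi-affine and the preimages of the affine opens are
quasi-affine, then `X` is quasi-affine. -/
theorem isQuasiAffine_of_preimage {W : Scheme.{u}} [W.IsQuasiAffine] (g : X ⟶ W) [QuasiCompact g]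
    (h : ∀ V : W.Opens, IsAffineOpen V → ((g ⁻¹ᵁ V : X.Opens) : Scheme.{u}).IsQuasiAffine) :
    X.IsQuasiAffine := by
  have := QuasiCompact.compactSpace_of_compactSpace g
  refine isQuasiAffine_of_globalSections X fun x => ?_
  obtain ⟨_, ⟨_, ⟨r, hr, rfl⟩, rfl⟩, hxr, -⟩ :=
    (Scheme.IsQuasiAffine.isBasis_basicOpen W).exists_subset_of_mem_open (Set.mem_univ (g.base x)) isOpen_univ
  refine ⟨g.appTop r, ?_, ?_⟩
  · rw [← Scheme.preimage_basicOpen_top]; exact hxr
  · rw [← Scheme.preimage_basicOpen_top]; exact h _ hr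

/-- Quasi-affineness of a morphism can be checked on an affine open cover of the target. -/
theorem isQuasiAffine_of_cover (f : X ⟶ Y)
    (H : ∀ y : Y, ∃ V : Y.Opens, IsAffineOpen V ∧ y ∈ V ∧ ((f ⁻¹ᵁ V : X.Opens) : Scheme.{u}).IsQuasiAffine) :
    Mor2.IsQuasiAffine f := by
  choose V hV hyV hqa using H
  have hsup : ⨆ y, V y = ⊤ := eq_top_iff.2 fun y _ => Opens.mem_iSup.2 ⟨y, hyV y⟩
  have hqc : QuasiCompact f := by
    refine IsZariskiLocalAtTarget.of_iSup_eq_top V hsup fun y => ?_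
    have := hqa y
    have : IsAffine (V y : Scheme.{u}) := hV y
    exact (quasiCompact_iff_compactSpace _).2 inferInstance
  refine ⟨hqc, fun U hU => ?_⟩
  have : CompactSpace (f ⁻¹ᵁ U : Scheme.{u}) :=
    isCompact_iff_compactSpace.1 (QuasiCompact.isCompact_preimage (f := f) _ U.isOpen hU.isCompact)
  refine isQuasiAffine_of_globalSections _ fun x => ?_
  obtain ⟨r, r', hrr, hxr⟩ := exists_basicOpen_le_affine_inter hU (hV (f.base x.1)) (f.base x.1) ⟨x.2, hyV _⟩
  let s : Γ(X, f ⁻¹ᵁ U) := f.app U r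
  have hle : f ⁻¹ᵁ Y.basicOpen r ≤ f ⁻¹ᵁ V (f.base x.1) := by
    rw [hrr]; exact f.preimage_mono (Y.basicOpen_le r')
  have hc : IsCompact ((f ⁻¹ᵁ Y.basicOpen r : X.Opens) : Set X) :=
    QuasiCompact.isCompact_preimage _ (Y.basicOpen r).isOpen (hU.basicOpen r).isCompact
  have hq := isQuasiAffine_open_of_le hle hc (hqa _)
  let t : Γ((f ⁻¹ᵁ U : Scheme.{u}), ⊤) := (f ⁻¹ᵁ U).topIso.inv s
  have ht : (f ⁻¹ᵁ U).ι ''ᵁ ((f ⁻¹ᵁ U : Scheme.{u}).basicOpen t) = f ⁻¹ᵁ Y.basicOpen r := by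
    rw [Scheme.image_basicOpen, Scheme.preimage_basicOpen]
    simp only [t, s, Scheme.Opens.topIso_inv, Scheme.Opens.ι_appIso, Iso.refl_inv]
    exact Scheme.basicOpen_res_eq _ _ _
  refine ⟨t, ?_, ?_⟩
  · have : x.1 ∈ (f ⁻¹ᵁ U).ι ''ᵁ ((f ⁻¹ᵁ U : Scheme.{u}).basicOpen t) := by rw [ht]; exact hxr
    obtain ⟨z, hz, hzx⟩ := this
    exact (Subtype.ext hzx : z = x) ▸ hz
  · rw [← ht] at hq
    exact isQuasiAffine_of_iso ((f ⁻¹ᵁ U).ι.isoImage _)

theorem comp (f : X ⟶ Y) (g : Y ⟶ Z) (hf : Mor2.IsQuasiAffine f) (hg : Mor2.IsQuasiAffine g) :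
    Mor2.IsQuasiAffine (f ≫ g) := by
  have := hf.1
  have := hg.1
  refine ⟨inferInstance, fun V hV => ?_⟩
  let W : Y.Opens := g ⁻¹ᵁ V
  have : (W : Scheme.{u}).IsQuasiAffine := hg.2 V hV
  have : QuasiCompact (f ∣_ W) := IsZariskiLocalAtTarget.restrict ‹QuasiCompact f› W
  change ((f ⁻¹ᵁ W : X.Opens) : Scheme.{u}).IsQuasiAffine
  refine isQuasiAffine_of_preimage (f ∣_ W) fun U hU => ?_
  have hU' : IsAffineOpen (W.ι ''ᵁ U) := hU.image_of_isOpenImmersion W.ι
  have := hf.2 _ hU'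
  have e : (f ⁻¹ᵁ W).ι ''ᵁ ((f ∣_ W) ⁻¹ᵁ U) = f ⁻¹ᵁ (W.ι ''ᵁ U) := image_morphismRestrict_preimage f W U
  rw [← e] at this
  exact isQuasiAffine_of_iso ((f ⁻¹ᵁ W).ι.isoImage _)

theorem baseChange {Y' : Scheme.{u}} (f : X ⟶ Y) (hf : Mor2.IsQuasiAffine f) (g : Y' ⟶ Y) :
    Mor2.IsQuasiAffine (pullback.snd f g) := by
  refine isQuasiAffine_of_cover _ fun y => ?_
  obtain ⟨V, hV, hyV, -⟩ := exists_isAffineOpen_mem_and_subset (x := g.base y) (U := (⊤ : Y.Opens)) trivial
  obtain ⟨V', hV', hyV', hle⟩ := exists_isAffineOpen_mem_and_subset (x := y) (U := g ⁻¹ᵁ V) hyV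
  refine ⟨V', hV', hyV', ?_⟩
  have : IsAffine (V : Scheme.{u}) := hV
  have : IsAffine (V' : Scheme.{u}) := hV'
  have : (f ⁻¹ᵁ V : Scheme.{u}).IsQuasiAffine := hf.2 V hV
  have h1 := (isPullback_morphismRestrict (pullback.snd f g) V').paste_vert (IsPullback.of_hasPullback f g).flip
  have h2 : V'.ι ≫ g = g.resLE V V' hle ≫ V.ι := (Scheme.Hom.resLE_comp_ι _ _).symm
  rw [h2] at h1
  have h3 := h1.flip.of_right' (isPullback_morphismRestrict f V).flip
  have : IsAffineHom (g.resLE V V' hle) := inferInstance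
  have hl : IsAffineHom _ := MorphismProperty.of_isPullback (P := @IsAffineHom) h3.flip this
  exact @Scheme.IsQuasiAffine.of_isAffineHom _ _ _ hl _

theorem of_isImmersion (f : X ⟶ Y) [IsImmersion f] [QuasiCompact f] : Mor2.IsQuasiAffine f := by
  refine ⟨‹_›, fun V hV => ?_⟩
  have : IsAffine (V : Scheme.{u}) := hV
  have : IsImmersion (f ∣_ V) := IsZariskiLocalAtTarget.restrict ‹IsImmersion f› V
  have : CompactSpace (f ⁻¹ᵁ V : Scheme.{u}) :=
    isCompact_iff_compactSpace.1 (QuasiCompact.isCompact_preimage (f := f) _ V.isOpen hV.isCompact)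
  exact Scheme.IsQuasiAffine.of_isImmersion (f ∣_ V)

theorem of_comp (f : X ⟶ Y) (g : Y ⟶ Z) [QuasiSeparated g] (h : Mor2.IsQuasiAffine (f ≫ g)) :
    Mor2.IsQuasiAffine f := by
  let γ : X ⟶ pullback (f ≫ g) g := pullback.lift (𝟙 X) f (by simp)
  have hγ : γ ≫ pullback.fst _ _ = 𝟙 X := pullback.lift_fst _ _ _
  have : IsImmersion (γ ≫ pullback.fst _ _) := by rw [hγ]; infer_instance
  have : IsImmersion γ := IsImmersion.of_comp γ (pullback.fst _ _)
  have : QuasiSeparated (pullback.fst (f ≫ g) g) := inferInstance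
  have : QuasiCompact (γ ≫ pullback.fst _ _) := by rw [hγ]; infer_instance
  have : QuasiCompact γ := QuasiCompact.of_comp γ (pullback.fst _ _)
  have := comp γ (pullback.snd _ _) (of_isImmersion γ) (baseChange _ h g)
  rwa [pullback.lift_snd] at this

theorem of_isEmbedding (f : X ⟶ Y) [QuasiCompact f] (hf : Topology.IsEmbedding f.base) :
    Mor2.IsQuasiAffine f := by
  refine isQuasiAffine_of_cover f fun y => ?_
  obtain ⟨V, hV, hyV, -⟩ := exists_isAffineOpen_mem_and_subset (x := y) (U := (⊤ : Y.Opens)) trivial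
  refine ⟨V, hV, hyV, ?_⟩
  have : CompactSpace (f ⁻¹ᵁ V : Scheme.{u}) :=
    isCompact_iff_compactSpace.1 (QuasiCompact.isCompact_preimage (f := f) _ V.isOpen hV.isCompact)
  have : IsAffine (V : Scheme.{u}) := hV
  refine Scheme.IsQuasiAffine.of_forall_exists_mem_basicOpen _ fun x => ?_
  let g := f ∣_ V
  have hg : Topology.IsEmbedding g.base := by
    rw [morphismRestrict_base]
    exact hf.restrictPreimage _
  obtain ⟨U, hU, hxU, -⟩ := exists_isAffineOpen_mem_and_subset (x := x) (U := (⊤ : (f ⁻¹ᵁ V : Scheme.{u}).Opens)) trivial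
  obtain ⟨O, hO, hOU⟩ := hg.isInducing.isOpen_iff.1 U.isOpen
  obtain ⟨_, ⟨_, ⟨r, -, rfl⟩, rfl⟩, hxr, hrO⟩ :=
    (Scheme.IsQuasiAffine.isBasis_basicOpen (V : Scheme.{u})).exists_subset_of_mem_open
      (show g.base x ∈ O from by rw [← Set.mem_preimage, hOU]; exact hxU) hO
  refine ⟨g.appTop r, ?_, ?_⟩
  · have hsub : (f ⁻¹ᵁ V : Scheme.{u}).basicOpen (g.appTop r) ≤ U := by
      rw [← Scheme.preimage_basicOpen_top]
      intro z hz
      exact hOU.le (hrO hz)
    have e : (f ⁻¹ᵁ V : Scheme.{u}).basicOpen (g.appTop r) =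
        (f ⁻¹ᵁ V : Scheme.{u}).basicOpen ((f ⁻¹ᵁ V : Scheme.{u}).presheaf.map (homOfLE le_top).op (g.appTop r) : Γ((f ⁻¹ᵁ V : Scheme.{u}), U)) := by
      rw [Scheme.basicOpen_res]
      exact (inf_eq_right.2 hsub).symm
    rw [e]
    exact hU.basicOpen _
  · rw [← Scheme.preimage_basicOpen_top]; exact hxr

end Groth.Agent.H11QAff
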